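import Cfsg.Agent.H421.GLn.Pointwise
import Cfsg.Agent.H614.GLn.Labels
import Cfsg.Agent.H139.Cusp.FieldSum
import Mathlib.RingTheory.MvPolynomial.Symmetric.Defs

/-!
# Elementary symmetric functions of the lifted eigenvalues, values of `Rf`
-/

set_option autoImplicit false

open Polynomial

namespace Cfsg.Agent.H421.GLn

open Cfsg.Agent.H139.Cusp Cfsg.Agent.H614.GLn

universe u w

section esymm

variable {R : Type*} [CommRing R]

theorem esymm_cons (a : R) (s : Multiset R) (n : ℕ) :
    (a ::ₘ s).esymm (n + 1) = s.esymm (n + 1) + a * s.esymm n := by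
  rw [Multiset.esymm, Multiset.powersetCard_cons, Multiset.map_add, Multiset.sum_add, Multiset.esymm,
    Multiset.esymm, Multiset.map_map, ← Multiset.sum_map_mul_left]
  congr 3
  funext x
  simp

theorem esymm_zero (s : Multiset R) : s.esymm 0 = 1 := by
  rw [Multiset.esymm, Multiset.powersetCard_zero_left]
  simp

theorem esymm_zero_left (n : ℕ) : (0 : Multiset R).esymm n = if n = 0 then 1 else 0 := by
  cases n with
  | zero => rw [esymm_zero, if_pos rfl]
  | succ n => rw [Multiset.esymm, Multiset.powersetCard_zero_right, if_neg (Nat.succ_ne_zero n)]; simp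

theorem esymm_eq_zero {s : Multiset R} {n : ℕ} (h : s.card < n) : s.esymm n = 0 := by
  rw [Multiset.esymm, Multiset.powersetCard_eq_empty n h]
  simp

theorem esymm_add (s t : Multiset R) (n : ℕ) :
    (s + t).esymm n = ∑ y ∈ Finset.HasAntidiagonal.antidiagonal n, s.esymm y.1 * t.esymm y.2 := by
  induction s using Multiset.induction_on generalizing n with
  | empty =>
    rw [zero_add, Finset.sum_eq_single (0, n)]
    · rw [esymm_zero, one_mul]
    · intro y hy hne
      rw [Finset.HasAntidiagonal.mem_antidiagonal] at hy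
      rw [esymm_zero_left, if_neg, zero_mul]
      intro h
      exact hne (Prod.ext h (by simp only; omega))
    · intro h
      rw [Finset.HasAntidiagonal.mem_antidiagonal] at h
      simp at h
  | cons a s ih =>
    cases n with
    | zero => simp [esymm_zero]
    | succ n =>
      rw [Multiset.cons_add, esymm_cons, ih, ih, Finset.Nat.antidiagonal_succ, Finset.sum_cons, Finset.sum_map,
        Finset.sum_cons, Finset.sum_map]
      simp only [esymm_zero, one_mul, Function.Embedding.prodMap, Function.Embedding.coeFn_mk, Prod.map_fst,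
        Prod.map_snd, Function.Embedding.refl_apply, esymm_cons]
      rw [Finset.mul_sum, add_assoc, ← Finset.sum_add_distrib]
      congr 1
      refine Finset.sum_congr rfl fun y _ => ?_
      show s.esymm (y.1 + 1) * _ + _ = _
      ring

end esymm

section periodic

/-- multisets of periodic sequences -/
theorem range_map_mul {A : Type*} {g : ℕ → A} {d : ℕ} (hg : ∀ i, g (i + d) = g i) (m : ℕ) :
    (Multiset.range (d * m)).map g = m • (Multiset.range d).map g := by
  induction m with
  | zero => simp
  | succ m ih =>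
    rw [Nat.mul_succ, succ_nsmul, ← ih, Multiset.range_add, Multiset.map_add, Multiset.map_map]
    congr 1
    refine Multiset.map_congr rfl fun i _ => ?_
    rw [Function.comp_apply]
    clear ih
    induction m with
    | zero => simp
    | succ m ih => rw [← ih, Nat.mul_succ, ← hg (d * m + i)]; congr 1; ring

theorem range_map_shift {A : Type*} {g : ℕ → A} {k : ℕ} (hg : ∀ i, g (i + k) = g i) (j : ℕ) :
    (Multiset.range k).map (fun i => g (j + i)) = (Multiset.range k).map g := by
  induction j with
  | zero => simp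
  | succ j ih =>
    rw [← ih]
    have h1 : (Multiset.range (k + 1)).map (fun i => g (j + i)) =
        g (j + k) ::ₘ (Multiset.range k).map (fun i => g (j + i)) := by
      rw [Multiset.range_succ, Multiset.map_cons]
    have h2 : (Multiset.range (k + 1)).map (fun i => g (j + i)) =
        g j ::ₘ (Multiset.range k).map (fun i => g (j + 1 + i)) := by
      rw [add_comm k 1, Multiset.range_add, Multiset.map_add, Multiset.map_map]
      rw [Multiset.range_succ, Multiset.range_zero, Multiset.map_cons, Multiset.map_zero, add_zero,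
        Multiset.cons_zero, Multiset.singleton_add]
      congr 1
      refine Multiset.map_congr rfl fun i _ => ?_
      rw [Function.comp_apply, add_assoc]
    rw [h1, hg] at h2
    exact (Multiset.cons_inj_right _).1 h2.symm

end periodic

section roots

variable {F : Type u} [Field F] {K : Type w} [Field K] [Algebra F K] {θ : K →*₀ ℂ} {N M : ℕ}

/-- the roots of an irreducible polynomial -/
theorem roots_irr (hc : Ctx F θ N M) {f : F[X]} (hf : f.Monic) (hirr : Irreducible f) (hN : f.natDegree ≤ N) :
    ∃ α : K, (f.map (algebraMap F K)).roots = (Multiset.range f.natDegree).map (fun i => α ^ (Nat.card F ^ i)) ∧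
      α ^ (Nat.card F ^ f.natDegree) = α ∧ (f.coeff 0 = 0 ↔ α = 0) := by
  have := hc.finF
  have := hc.finK
  have hs := hc.spl f hf hN
  have hdeg : (f.map (algebraMap F K)).degree ≠ 0 := by
    rw [degree_map]
    exact (degree_pos_of_irreducible hirr).ne'
  obtain ⟨α, hα⟩ := hs.exists_eval_eq_zero hdeg
  rw [eval_map_algebraMap] at hα
  have hmin : f = minpoly F α := minpoly.eq_of_irreducible_of_monic hirr hα hf
  refine ⟨α, ?_, ?_, ?_⟩
  · rw [hmin]
    exact roots_minpoly α
  · rw [pow_eq_self_iff, hmin]
  · constructor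
    · intro h
      rw [hmin] at h
      have h1 := (minpoly.coeff_zero_eq_zero (integral_of_finite (F := F) α)).1 h
      exact h1
    · rintro rfl
      rw [hmin]
      exact (minpoly.coeff_zero_eq_zero (integral_of_finite (F := F) (0 : K))).2 rfl

open Classical in
/-- value of `lba` -/
theorem lba_irr (hc : Ctx F θ N M) {f : F[X]} {α : K}
    (hr : (f.map (algebraMap F K)).roots = (Multiset.range f.natDegree).map (fun i => α ^ (Nat.card F ^ i)))
    (a : ℕ) : lba θ a f = if α = 0 then 0 else ∑ i ∈ Finset.range f.natDegree, θ α ^ (Nat.card F ^ i * a) := by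
  have := hc.finF
  rw [lba, hr, Multiset.map_map]
  by_cases h : α = 0
  · rw [if_pos h]
    apply Multiset.sum_eq_zero
    intro x hx
    rw [Multiset.mem_map] at hx
    obtain ⟨i, _, rfl⟩ := hx
    rw [Function.comp_apply, h, zero_pow (Nat.pow_pos Nat.card_pos).ne', if_pos rfl]
  · rw [if_neg h]
    show _ = (Multiset.map (fun i => θ α ^ (Nat.card F ^ i * a)) (Multiset.range f.natDegree)).sum
    congr 1
    refine Multiset.map_congr rfl fun i _ => ?_
    rw [Function.comp_apply, if_neg (pow_ne_zero _ h), map_pow, ← pow_mul]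

theorem lba_congr (hc : Ctx F θ N M) {f : F[X]} (hf : f.Monic) (hirr : Irreducible f) {k : ℕ}
    (hk : 0 < k) (hkN : k ≤ N) (hdk : f.natDegree ∣ k) {a b : ℕ} (hab : Nat.card F * a ≡ b [MOD Nat.card F ^ k - 1]) :
    lba θ a f = lba θ b f := by
  have := hc.finF
  obtain ⟨α, hr, hα, -⟩ := roots_irr hc hf hirr ((Nat.le_of_dvd hk hdk).trans hkN)
  rw [lba_irr hc hr, lba_irr hc hr]
  by_cases h : α = 0
  · rw [if_pos h, if_pos h]
  rw [if_neg h, if_neg h]
  have hθ : θ α ≠ 0 := (map_ne_zero θ).2 h
  have h1 : θ α ^ (Nat.card F ^ f.natDegree) = θ α := by rw [← map_pow, hα]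
  have h2 : θ α ^ (Nat.card F ^ k) = θ α := by
    obtain ⟨m, rfl⟩ := hdk
    rw [pow_mul]
    clear hk hkN hab
    induction m with
    | zero => simp
    | succ m ih => rw [pow_succ, pow_mul, ih, h1]
  have h3 : θ α ^ (Nat.card F ^ k - 1) = 1 := by
    have h4 : 1 ≤ Nat.card F ^ k := Nat.one_le_pow _ _ Nat.card_pos
    have h5 : θ α ^ (Nat.card F ^ k - 1) * θ α = 1 * θ α := by
      rw [← pow_succ, Nat.sub_add_cancel h4, h2, one_mul]
    exact mul_right_cancel₀ hθ h5
  have h4 : ∀ {c e : ℕ}, c ≡ e [MOD Nat.card F ^ k - 1] → θ α ^ c = θ α ^ e := by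
    intro c e hce
    rw [pow_eq_pow_mod c h3, pow_eq_pow_mod e h3, hce]
  -- the sum for `q a`
  have h5 : ∑ i ∈ Finset.range f.natDegree, θ α ^ (Nat.card F ^ i * (Nat.card F * a)) =
      ∑ i ∈ Finset.range f.natDegree, θ α ^ (Nat.card F ^ i * a) := by
    have h6 := Finset.sum_range_succ' (fun i => θ α ^ (Nat.card F ^ i * a)) f.natDegree
    have h7 := Finset.sum_range_succ (fun i => θ α ^ (Nat.card F ^ i * a)) f.natDegree
    rw [h7] at h6
    have h8 : θ α ^ (Nat.card F ^ f.natDegree * a) = θ α ^ (Nat.card F ^ 0 * a) := by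
      rw [pow_mul, h1, pow_zero, one_mul]
    rw [h8] at h6
    have h9 := add_right_cancel h6
    rw [h9]
    refine Finset.sum_congr rfl fun i _ => ?_
    congr 1
    ring
  rw [← h5]
  refine Finset.sum_congr rfl fun i _ => h4 ?_
  exact hab.mul_left _

/-- **Frobenius invariance** of the primitive families. -/
theorem inv_Rf (hc : Ctx F θ N M) : ∀ k a b, 0 < k → k ≤ N →
    Nat.card F * a ≡ b [MOD Nat.card F ^ k - 1] → (Rf θ k a : Fam F) = Rf θ k b := by
  intro k a b hk hkN hab
  have := hc.finF
  refine Fam.ext' fun V _ _ _ T => ?_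
  rw [Rf, Rf, comp_fn, comp_fn]
  by_cases hV : Module.finrank F V = k
  · rw [if_pos hV, if_pos hV, kapF_fn, kapF_fn]
    refine kap_congr_B (lba_add θ a) (lba_add θ b) (fun f hf hirr hdvd => ?_) T
    rw [hV] at hdvd
    exact lba_congr hc hf hirr hk hkN hdvd hab
  · rw [if_neg hV, if_neg hV]

/-- kap at a primary endomorphism -/
theorem exists_kap [Finite F] {V : Type u} [AddCommGroup V] [Module F V] [Finite V] {T : V →ₗ[F] V} {f : F[X]}
    {m : ℕ} (hf : f.Monic) (hirr : Irreducible f) (hm : 0 < m) (hfm : T.charpoly = f ^ m) :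
    ∃ c : ℂ, ∀ B : F[X] → ℂ, Add B → kap B T ⊤ = B f * c := by
  obtain ⟨k, hk⟩ := exists_finrank_ker hirr (g := T) (by rw [hfm]; exact dvd_pow_self f hm.ne')
  exact ⟨_, fun B hB => kap_formula B hB hf hirr (aeval_pow_of_charpoly hfm) hk⟩

end roots

end Cfsg.Agent.H421.GLn
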