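import Cfsg.Agent.H614.GLn.Basic

/-!
# Pointwise operations on families (G3, G4)
-/

set_option autoImplicit false

open Polynomial

namespace Cfsg.Agent.H421.GLn

open Cfsg.Agent.H139.Cusp Cfsg.Agent.H614.GLn

universe u w

attribute [local instance] fintypeHom fintypeSub finite_quot

variable {F : Type u} [Field F]

theorem cp_eq {V : Type u} [AddCommGroup V] [Module F V] [Finite V] {T : V →ₗ[F] V} {W : Submodule F V}
    (h : W ≤ W.comap T) : T.charpoly = (W.mapQ W T h).charpoly * (T.restrict h).charpoly := by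
  rw [mul_comm]
  exact charpoly_eq_mul W T h

theorem pw_mul {B : F[X] → ℂ} (hB : ∀ p q : F[X], p.Monic → q.Monic → B (p * q) = B p * B q) (f g : Fam F) :
    pw B (f * g) = pw B f * pw B g := by
  refine Fam.ext' fun V _ _ _ T => ?_
  rw [pw_fn, Fam.mul_fn', Fam.mul_fn', Finset.mul_sum]
  refine Finset.sum_congr rfl fun W _ => ?_
  by_cases h : W ≤ W.comap T
  · rw [Fam.term_of h, Fam.term_of h, pw_fn, pw_fn, cp_eq h,
      hB _ _ (LinearMap.charpoly_monic _) (LinearMap.charpoly_monic _)]
    ring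
  · rw [Fam.term_of_not h, Fam.term_of_not h, mul_zero]

theorem pw_mul_add {B : F[X] → ℂ} (hB : Add B) (f g : Fam F) :
    pw B (f * g) = pw B f * g + f * pw B g := by
  refine Fam.ext' fun V _ _ _ T => ?_
  rw [pw_fn, Fam.add_fn, Fam.mul_fn', Fam.mul_fn', Fam.mul_fn', Finset.mul_sum, ← Finset.sum_add_distrib]
  refine Finset.sum_congr rfl fun W _ => ?_
  by_cases h : W ≤ W.comap T
  · rw [Fam.term_of h, Fam.term_of h, Fam.term_of h, pw_fn, pw_fn, cp_eq h,
      hB _ _ (LinearMap.charpoly_monic _) (LinearMap.charpoly_monic _)]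
    ring
  · rw [Fam.term_of_not h, Fam.term_of_not h, Fam.term_of_not h, mul_zero, add_zero]

/-- more generally, for a convolution rule -/
theorem pw_mul_conv {r : ℕ} {B : F[X] → ℂ} {C D : ℕ → F[X] → ℂ}
    (hB : ∀ p q : F[X], p.Monic → q.Monic → B (p * q) = ∑ y ∈ Finset.HasAntidiagonal.antidiagonal r, C y.1 p * D y.2 q)
    (f g : Fam F) :
    pw B (f * g) = ∑ y ∈ Finset.HasAntidiagonal.antidiagonal r, pw (C y.1) f * pw (D y.2) g := by
  have hsum : ∀ (s : Finset (ℕ × ℕ)) (φ : ℕ × ℕ → Fam F) (V : Type u) [AddCommGroup V] [Module F V]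
      (T : V →ₗ[F] V), (∑ y ∈ s, φ y).fn V T = ∑ y ∈ s, (φ y).fn V T := by
    classical
    intro s φ V _ _ T
    induction s using Finset.induction_on with
    | empty => simp [Fam.zero_fn]
    | insert a s ha ih => rw [Finset.sum_insert ha, Finset.sum_insert ha, Fam.add_fn, ih]
  refine Fam.ext' fun V _ _ _ T => ?_
  rw [pw_fn, Fam.mul_fn', hsum]
  have hy : ∀ y : ℕ × ℕ, (pw (C y.1) f * pw (D y.2) g).fn V T =
      ∑ W : Submodule F V, (pw (C y.1) f).term (pw (D y.2) g) V T W := fun y => Fam.mul_fn' _ _ V T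
  simp only [hy]
  rw [Finset.sum_comm, Finset.mul_sum]
  refine Finset.sum_congr rfl fun W _ => ?_
  by_cases h : W ≤ W.comap T
  · rw [Fam.term_of h, cp_eq h, hB _ _ (LinearMap.charpoly_monic _) (LinearMap.charpoly_monic _), Finset.sum_mul]
    refine Finset.sum_congr rfl fun y _ => ?_
    rw [Fam.term_of h, pw_fn, pw_fn]
    ring
  · rw [Fam.term_of_not h, mul_zero]
    symm
    exact Finset.sum_eq_zero fun y _ => Fam.term_of_not h

theorem comp_mul (n : ℕ) (f g : Fam F) :
    comp n (f * g) = ∑ y ∈ Finset.HasAntidiagonal.antidiagonal n, comp y.1 f * comp y.2 g := by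
  refine pw_mul_conv (C := fun i p => if p.natDegree = i then 1 else 0)
    (D := fun i p => if p.natDegree = i then 1 else 0) (fun p q hp hq => ?_) f g
  rw [hp.natDegree_mul hq]
  by_cases h : p.natDegree + q.natDegree = n
  · rw [if_pos h, Finset.sum_eq_single (p.natDegree, q.natDegree)]
    · simp
    · intro y _ hne
      by_cases h1 : p.natDegree = y.1
      · rw [if_neg (c := q.natDegree = y.2), mul_zero]
        intro h2
        exact hne (Prod.ext h1.symm h2.symm)
      · rw [if_neg h1, zero_mul]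
    · intro h1
      exact absurd (Finset.HasAntidiagonal.mem_antidiagonal.2 h) h1
  · rw [if_neg h]
    symm
    refine Finset.sum_eq_zero fun y hy => ?_
    rw [Finset.HasAntidiagonal.mem_antidiagonal] at hy
    by_cases h1 : p.natDegree = y.1
    · rw [if_neg (c := q.natDegree = y.2), mul_zero]
      intro h2
      exact h (by omega)
    · rw [if_neg h1, zero_mul]

theorem sum_fn {ι : Type*} (s : Finset ι) (φ : ι → Fam F) (V : Type u) [AddCommGroup V] [Module F V]
    (T : V →ₗ[F] V) : (∑ y ∈ s, φ y).fn V T = ∑ y ∈ s, (φ y).fn V T := by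
  classical
  induction s using Finset.induction_on with
  | empty => simp [Fam.zero_fn]
  | insert a s ha ih => rw [Finset.sum_insert ha, Finset.sum_insert ha, Fam.add_fn, ih]

/-- multiplication of a function of the charpoly by the Möbius inversion of an additive one. -/
theorem grp_mul_kap (B C : F[X] → ℂ) {V : Type u} [AddCommGroup V] [Module F V] [Finite V] (T : V →ₗ[F] V)
    {r : ℕ} {D E : ℕ → F[X] → ℂ}
    (hB : ∀ p q : F[X], p.Monic → q.Monic → B (p * q) = ∑ y ∈ Finset.HasAntidiagonal.antidiagonal r, D y.1 p * E y.2 q) :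
    (∑ y ∈ Finset.HasAntidiagonal.antidiagonal r, grp (D y.1) * pw (E y.2) (kapF C)).fn V T = B T.charpoly * C T.charpoly := by
  have hy : ∀ y : ℕ × ℕ, (grp (D y.1) * pw (E y.2) (kapF C)).fn V T =
      ∑ W : Submodule F V, (grp (D y.1)).term (pw (E y.2) (kapF C)) V T W := fun y => Fam.mul_fn' _ _ V T
  rw [sum_fn]
  simp only [hy]
  rw [Finset.sum_comm, ← kap_sum_top C T, Finset.mul_sum]
  refine Finset.sum_congr rfl fun W _ => ?_
  by_cases h : W ≤ W.comap T
  · rw [kap_eq_top C h]
    conv_rhs => rw [cp_eq h, hB _ _ (LinearMap.charpoly_monic _) (LinearMap.charpoly_monic _), Finset.sum_mul]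
    refine Finset.sum_congr rfl fun y _ => ?_
    rw [Fam.term_of h, pw_fn, grp_fn, kapF_fn]
    ring
  · rw [kap_of_not C h, mul_zero]
    exact Finset.sum_eq_zero fun y _ => Fam.term_of_not h

theorem pw_grp_one {C : F[X] → ℂ} : pw C (grp fun _ => 1) = grp (fun _ => 1) * kapF C := by
  refine Fam.ext' fun V _ _ _ T => ?_
  rw [pw_fn, grp_fn, mul_one, Fam.mul_fn', ← kap_sum_top C T]
  refine Finset.sum_congr rfl fun W _ => ?_
  by_cases h : W ≤ W.comap T
  · rw [kap_eq_top C h, Fam.term_of h, grp_fn, kapF_fn, one_mul]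
  · rw [kap_of_not C h, Fam.term_of_not h]

/-- **Newton's identity** (multiplicative `B`) -/
theorem newton_grp {B : F[X] → ℂ} (hB : ∀ p q : F[X], p.Monic → q.Monic → B (p * q) = B p * B q)
    (C : F[X] → ℂ) : pw C (grp B) = grp B * pw B (kapF C) := by
  refine Fam.ext' fun V _ _ _ T => ?_
  rw [pw_fn, grp_fn, Fam.mul_fn', ← kap_sum_top C T, Finset.sum_mul]
  refine Finset.sum_congr rfl fun W _ => ?_
  by_cases h : W ≤ W.comap T
  · rw [kap_eq_top C h, Fam.term_of h, grp_fn, pw_fn, kapF_fn]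
    conv_lhs => rw [cp_eq h, hB _ _ (LinearMap.charpoly_monic _) (LinearMap.charpoly_monic _)]
    ring
  · rw [kap_of_not C h, Fam.term_of_not h, zero_mul]

theorem natDegree_add : Add (F := F) (fun p => (p.natDegree : ℂ)) := by
  intro p q hp hq
  show ((p * q).natDegree : ℂ) = p.natDegree + q.natDegree
  rw [hp.natDegree_mul hq]
  push_cast
  rfl

end Cfsg.Agent.H421.GLn
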