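import Cfsg.Agent.H421.GLn.Necklace
import Cfsg.Agent.H614.GLn.RSForm

/-!
# G6 in the standard model: the complete homogeneous elements are integral polynomials in the exterior powers
-/

set_option autoImplicit false

namespace Cfsg.Agent.H421.GLn

open Cfsg.Agent.H577.GLB.Std Cfsg.Agent.H614.GLn.RSt

section

variable {Q : ℤ} {M : ℕ} {N : ℕ}

/-- the power sum with exponent `a` modulo `Q ^ k - 1` -/
noncomputable def Prs (Q : ℤ) (M : ℕ) (k : ℕ) (a : ℤ) : RS M :=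
  rv Q M k (((a * ((M : ℤ) / (Q ^ k - 1)) : ℤ)) : ZMod M)

/-- the exterior powers: `En n k x` is the `k`-th exterior power of the lift `θ ^ x` in dimension `n` -/
noncomputable def En (Q : ℤ) (M : ℕ) (n k : ℕ) (x : ℤ) : RS M := (newt (QQ Q (Prs Q M) x) n).coeff k

/-- the complete homogeneous elements of a label of level `d` -/
noncomputable def hRS (Q : ℤ) (M : ℕ) (d : ℕ) (c : ZMod M) : ℕ → RS M := newt fun i => rv Q M (i * d) c

theorem hRS_zero (d : ℕ) (c : ZMod M) : hRS Q M d c 0 = 1 := newt_zero _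

theorem hRS_rec (d : ℕ) (c : ZMod M) (n : ℕ) : (n : RS M) * hRS Q M d c n =
    ∑ i ∈ Finset.range n, rv Q M ((i + 1) * d) c * hRS Q M d c (n - 1 - i) := newt_rec _ n

theorem QQ_coeff' {R : Type*} [CommRing R] [Algebra ℂ R] {q x : ℤ} {k r : ℕ} {P : ℕ → ℤ → R} :
    (QQ q P x k).coeff r = ∑ S ∈ (Finset.range k).powersetCard r, P k (x * ∑ i ∈ S, q ^ i) := by
  classical
  rw [QQ, Polynomial.finsetSum_coeff]
  simp only [Polynomial.coeff_monomial]
  rw [← Finset.sum_filter]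
  refine Finset.sum_congr ?_ fun _ _ => rfl
  ext S
  rw [Finset.mem_filter, Finset.mem_powersetCard, Finset.mem_powerset]

theorem En_zero (k : ℕ) (x : ℤ) : En Q M 0 k x = if k = 0 then 1 else 0 := by
  rw [En, newt_zero, Polynomial.coeff_one]

/-- the recursion for the exterior powers -/
theorem En_rec (n k : ℕ) (x : ℤ) : (n : RS M) * En Q M n k x =
    ∑ i ∈ Finset.range n, ∑ y ∈ Finset.HasAntidiagonal.antidiagonal k,
      (∑ S ∈ (Finset.range (i + 1)).powersetCard y.1, Prs Q M (i + 1) (x * ∑ j ∈ S, Q ^ j)) *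
        En Q M (n - 1 - i) y.2 x := by
  have h := congrArg (fun p : Polynomial (RS M) => p.coeff k) (newt_rec (QQ Q (Prs Q M) x) n)
  rw [← Polynomial.C_eq_natCast, Polynomial.coeff_C_mul, Polynomial.finsetSum_coeff] at h
  rw [En, h]
  refine Finset.sum_congr rfl fun i _ => ?_
  rw [Polynomial.coeff_mul]
  refine Finset.sum_congr rfl fun y _ => ?_
  rw [QQ_coeff']
  rfl

variable [NeZero M]

theorem rv_Q (hQ : IsUnit (Q : ZMod M)) (k : ℕ) (c : ZMod M) : rv Q M k ((Q : ZMod M) * c) = rv Q M k c := by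
  classical
  have h1 : TorZ Q M k ((Q : ZMod M) * c) ↔ TorZ Q M k c := by
    rw [TorZ, TorZ, mul_left_comm]
    obtain ⟨u, hu⟩ := hQ
    rw [← hu, Units.mul_right_eq_zero]
  have h2 : canon Q M ((Q : ZMod M) * c) = canon Q M c :=
    (canon_eq_of_same hQ ⟨1, by rw [pow_one]⟩).symm
  rw [rv, rv, h2]
  simp only [h1]

theorem inv_Prs (hQ : IsUnit (Q : ZMod M)) (hdvd : ∀ k, 0 < k → k ≤ N → Q ^ k - 1 ∣ (M : ℤ)) :
    Inv Q N (Prs Q M) := by
  intro k a b hk hkN hab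
  obtain ⟨t, ht⟩ := hab.dvd
  rw [Prs, Prs]
  have h1 : (((b * ((M : ℤ) / (Q ^ k - 1)) : ℤ)) : ZMod M) =
      (Q : ZMod M) * (((a * ((M : ℤ) / (Q ^ k - 1)) : ℤ)) : ZMod M) := by
    have h2 : b = Q * a + (Q ^ k - 1) * t := by linarith
    have h3 : (Q ^ k - 1) * ((M : ℤ) / (Q ^ k - 1)) = M := Int.mul_ediv_cancel' (hdvd k hk hkN)
    have h4 : b * ((M : ℤ) / (Q ^ k - 1)) = Q * (a * ((M : ℤ) / (Q ^ k - 1))) + t * M := by
      rw [h2, ← h3]
      rw [Int.mul_ediv_cancel' (hdvd k hk hkN)]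
      linear_combination t * h3
    rw [h4]
    push_cast
    simp
  rw [h1, rv_Q hQ]

/-- exponent of a label -/
theorem exists_exponent (hdvd : ∀ k, 0 < k → k ≤ N → Q ^ k - 1 ∣ (M : ℤ)) {d : ℕ} (hd : 0 < d) (hdN : d ≤ N)
    {c : ZMod M} (hT : TorZ Q M d c) : ∃ x : ℤ, c = (((x * ((M : ℤ) / (Q ^ d - 1)) : ℤ)) : ZMod M) := by
  have h3 : (Q ^ d - 1) * ((M : ℤ) / (Q ^ d - 1)) = M := Int.mul_ediv_cancel' (hdvd d hd hdN)
  have hne : (Q ^ d - 1) ≠ 0 := by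
    intro h
    rw [h, zero_mul] at h3
    exact (NeZero.ne M) (by exact_mod_cast h3.symm)
  have h1 : (((Q ^ d - 1) * (c.val : ℤ) : ℤ) : ZMod M) = 0 := by
    push_cast
    rw [ZMod.natCast_zmod_val]
    exact hT
  rw [ZMod.intCast_zmod_eq_zero_iff_dvd] at h1
  obtain ⟨t, ht⟩ := h1
  refine ⟨t, ?_⟩
  have h4 : (c.val : ℤ) = t * ((M : ℤ) / (Q ^ d - 1)) := by
    apply mul_left_cancel₀ hne
    rw [ht]
    linear_combination -t * h3
  rw [← h4]
  push_cast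
  rw [ZMod.natCast_zmod_val]

theorem hRS_eq (hdvd : ∀ k, 0 < k → k ≤ N → Q ^ k - 1 ∣ (M : ℤ)) {d : ℕ} (hd : 0 < d) {c : ZMod M} {x : ℤ}
    (hx : c = (((x * ((M : ℤ) / (Q ^ d - 1)) : ℤ)) : ZMod M)) {j : ℕ} (hj : j * d ≤ N) :
    hRS Q M d c j = HH Q (Prs Q M) d x j := by
  refine newt_congr (N := j) (fun i hi0 hij => ?_) j le_rfl
  have hiN : d * i ≤ N := le_trans (by rw [mul_comm]; exact Nat.mul_le_mul_right d hij) hj
  have hdN : d ≤ N := le_trans (Nat.le_mul_of_pos_right d hi0) hiN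
  rw [Prs, mul_comm i d, hx]
  congr 2
  have h3 : (Q ^ d - 1) * ((M : ℤ) / (Q ^ d - 1)) = M := Int.mul_ediv_cancel' (hdvd d hd hdN)
  have h4 : (Q ^ (d * i) - 1) * ((M : ℤ) / (Q ^ (d * i) - 1)) = M :=
    Int.mul_ediv_cancel' (hdvd _ (Nat.mul_pos hd hi0) hiN)
  have hne : (Q ^ d - 1) ≠ 0 := by
    intro h
    rw [h, zero_mul] at h3
    exact (NeZero.ne M) (by exact_mod_cast h3.symm)
  have h5 : (Q ^ (d * i) - 1) = (Q ^ d - 1) * ∑ j ∈ Finset.range i, (Q ^ d) ^ j := by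
    rw [pow_mul, mul_comm, geom_sum_mul]
  rw [mul_assoc]
  congr 1
  apply mul_left_cancel₀ hne
  rw [h3, ← mul_assoc, ← h5, h4]

/-- **G6 in the standard model** -/
theorem hRS_mem (hQ : IsUnit (Q : ZMod M)) (hdvd : ∀ k, 0 < k → k ≤ N → Q ^ k - 1 ∣ (M : ℤ))
    (S : Subring (RS M)) (hS : ∀ n k x, n ≤ N → En Q M n k x ∈ S) {d : ℕ} (hd : 0 < d) {c : ZMod M}
    (hT : TorZ Q M d c) {j : ℕ} (hj : j * d ≤ N) : hRS Q M d c j ∈ S := by
  rcases Nat.eq_zero_or_pos j with rfl | hj0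
  · rw [hRS_zero]
    exact S.one_mem
  have hdN : d ≤ N := le_trans (Nat.le_mul_of_pos_left d hj0) hj
  obtain ⟨x, hx⟩ := exists_exponent hdvd hd hdN hT
  rw [hRS_eq hdvd hd hx hj]
  exact HH_mem S (inv_Prs hQ hdvd) (fun x n r hn => hS n r x hn) j d x hd hj

end

end Cfsg.Agent.H421.GLn
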