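import Mathlib.RingTheory.PowerSeries.Basic
import Mathlib.RingTheory.PowerSeries.Derivative
import Mathlib.Algebra.Polynomial.Basic
import Mathlib.Algebra.Polynomial.Coeff
import Mathlib.Data.Complex.Basic
import Mathlib.Dynamics.PeriodicPts.Defs
import Mathlib.Data.ZMod.QuotientGroup
import Mathlib.Algebra.Order.Antidiag.Prod
import Mathlib.Tactic

/-!
# Newton sequences

`newt P` is the sequence `h` with `h 0 = 1`, `n h n = ∑_{i = 1}^n P i * h (n - i)`.
-/

set_option autoImplicit false

namespace Cfsg.Agent.H421.GLn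

open PowerSeries Finset

section newton

variable {R : Type*} [CommRing R] [Algebra ℂ R]

/-- Newton sequence: `h 0 = 1`, `n h n = ∑_{i=1}^n P i * h (n-i)`. -/
noncomputable def newt (P : ℕ → R) : ℕ → R
  | 0 => 1
  | (n + 1) => ((n + 1 : ℂ)⁻¹) • ∑ i : Fin (n + 1), P (i + 1) * newt P (n - i)
decreasing_by omega

theorem newt_zero (P : ℕ → R) : newt P 0 = 1 := by rw [newt]

theorem natCast_inj {n : ℕ} (hn : n ≠ 0) {a b : R} (h : (n : R) * a = n * b) : a = b := by
  have h1 : ((n : ℂ)⁻¹) • ((n : R) * a) = ((n : ℂ)⁻¹) • ((n : R) * b) := by rw [h]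
  have h2 : ∀ c : R, ((n : ℂ)⁻¹) • ((n : R) * c) = c := by
    intro c
    have : (n : R) * c = (n : ℂ) • c := by
      rw [Algebra.smul_def, map_natCast]
    rw [this, smul_smul, inv_mul_cancel₀ (by exact_mod_cast hn), one_smul]
  rwa [h2, h2] at h1

theorem newt_rec (P : ℕ → R) (n : ℕ) :
    (n : R) * newt P n = ∑ i ∈ range n, P (i + 1) * newt P (n - 1 - i) := by
  cases n with
  | zero => simp
  | succ n =>
    rw [newt, Finset.sum_range]
    have h : ∀ c : R, ((n + 1 : ℕ) : R) * (((n + 1 : ℂ)⁻¹) • c) = c := by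
      intro c
      rw [mul_smul_comm]
      have : ((n + 1 : ℕ) : R) * c = ((n + 1 : ℂ)) • c := by
        rw [Algebra.smul_def]
        simp
      have hn : ((n : ℂ) + 1) ≠ 0 := Nat.cast_add_one_ne_zero n
      rw [this, smul_smul, inv_mul_cancel₀ hn, one_smul]
    rw [h]
    rfl

theorem newt_unique {P : ℕ → R} {h : ℕ → R} {N : ℕ} (h0 : h 0 = 1)
    (hr : ∀ n ≤ N, (n : R) * h n = ∑ i ∈ range n, P (i + 1) * h (n - 1 - i)) :
    ∀ n ≤ N, h n = newt P n := by
  intro n
  induction n using Nat.strong_induction_on with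
  | _ n ih =>
    intro hn
    rcases Nat.eq_zero_or_pos n with rfl | hp
    · rw [h0, newt_zero]
    · apply natCast_inj hp.ne'
      rw [hr n hn, newt_rec]
      refine Finset.sum_congr rfl fun i hi => ?_
      rw [mem_range] at hi
      rw [ih (n - 1 - i) (by omega) (by omega)]

theorem newt_congr {P P' : ℕ → R} {N : ℕ} (h : ∀ n, 0 < n → n ≤ N → P n = P' n) :
    ∀ n ≤ N, newt P n = newt P' n := by
  apply newt_unique (newt_zero P)
  intro n hn
  rw [newt_rec]
  refine Finset.sum_congr rfl fun i hi => ?_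
  rw [mem_range] at hi
  rw [h (i + 1) (by omega) (by omega)]

theorem newt_map {R' : Type*} [CommRing R'] [Algebra ℂ R'] (φ : R →ₐ[ℂ] R') (P : ℕ → R) (n : ℕ) :
    φ (newt P n) = newt (fun i => φ (P i)) n := by
  refine newt_unique (N := n) (h := fun n => φ (newt P n)) ?_ ?_ n le_rfl
  · simp only [newt_zero, map_one]
  · intro n _
    have h := congrArg φ (newt_rec P n)
    rw [map_mul, map_natCast, map_sum] at h
    rw [h]
    exact Finset.sum_congr rfl fun i _ => map_mul φ _ _

/-- `X * d/dX` -/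
noncomputable def dS {A : Type*} [CommRing A] (f : A⟦X⟧) : A⟦X⟧ := X * derivative A f

theorem coeff_dS {A : Type*} [CommRing A] (f : A⟦X⟧) (n : ℕ) : coeff n (dS f) = n * coeff n f := by
  cases n with
  | zero => simp [dS]
  | succ n =>
    rw [dS, coeff_succ_X_mul, coeff_derivative]
    push_cast
    ring

theorem dS_mul {A : Type*} [CommRing A] (f g : A⟦X⟧) : dS (f * g) = dS f * g + f * dS g := by
  rw [dS, dS, dS, Derivation.leibniz, smul_eq_mul, smul_eq_mul]
  ring

theorem dS_one {A : Type*} [CommRing A] : dS (1 : A⟦X⟧) = 0 := by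
  rw [dS, Derivation.map_one_eq_zero, mul_zero]

theorem dS_prod {A ι : Type*} [CommRing A] (s : Finset ι) (f p : ι → A⟦X⟧)
    (h : ∀ i ∈ s, dS (f i) = p i * f i) : dS (∏ i ∈ s, f i) = (∑ i ∈ s, p i) * ∏ i ∈ s, f i := by
  classical
  induction s using Finset.induction_on with
  | empty => simp [dS_one]
  | insert a s ha ih =>
    rw [prod_insert ha, sum_insert ha, dS_mul, h a (mem_insert_self _ _),
      ih fun i hi => h i (mem_insert_of_mem hi)]
    ring

/-- the generating series of the Newton sequence -/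
noncomputable def hS (P : ℕ → R) : R⟦X⟧ := PowerSeries.mk (newt P)

/-- the generating series of the power sums -/
noncomputable def pS {A : Type*} [CommRing A] (P : ℕ → A) : A⟦X⟧ :=
  PowerSeries.mk fun n => if n = 0 then 0 else P n

theorem coeff_pS_mul {A : Type*} [CommRing A] (P : ℕ → A) (f : A⟦X⟧) (n : ℕ) :
    coeff n (pS P * f) = ∑ i ∈ range n, P (i + 1) * coeff (n - 1 - i) f := by
  rw [coeff_mul, Finset.Nat.sum_antidiagonal_eq_sum_range_succ_mk, Finset.sum_range_succ']
  simp only [pS, coeff_mk, if_true, zero_mul, add_zero]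
  refine Finset.sum_congr rfl fun i hi => ?_
  rw [if_neg (Nat.succ_ne_zero i), show n - (i + 1) = n - 1 - i by omega]

theorem dS_hS (P : ℕ → R) : dS (hS P) = pS P * hS P := by
  ext n
  rw [coeff_dS, coeff_pS_mul]
  simp only [hS, coeff_mk]
  exact newt_rec P n

/-- a series with constant term `1` is determined by its logarithmic derivative, up to a degree. -/
theorem uniq_trunc {f g p p' : R⟦X⟧} {N : ℕ} (hf : dS f = p * f) (hg : dS g = p' * g)
    (h0 : coeff 0 f = coeff 0 g) (hp0 : coeff 0 p = 0)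
    (hp : ∀ n ≤ N, coeff n p = coeff n p') : ∀ n ≤ N, coeff n f = coeff n g := by
  intro n
  induction n using Nat.strong_induction_on with
  | _ n ih =>
    intro hn
    rcases Nat.eq_zero_or_pos n with rfl | hpos
    · exact h0
    · apply natCast_inj hpos.ne'
      rw [← coeff_dS, ← coeff_dS, hf, hg, coeff_mul, coeff_mul]
      refine Finset.sum_congr rfl fun x hx => ?_
      rw [mem_antidiagonal] at hx
      rw [hp x.1 (by omega)]
      rcases Nat.eq_zero_or_pos x.1 with h1 | h1
      · rw [h1, ← hp 0 (Nat.zero_le _), hp0, zero_mul, zero_mul]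
      · rw [ih x.2 (by omega) (by omega)]

end newton

section up

variable {R : Type*} [CommRing R]

/-- substitution `t ↦ z ^ w t ^ d` -/
noncomputable def up (d w : ℕ) (f : R⟦X⟧) : (Polynomial R)⟦X⟧ :=
  PowerSeries.mk fun n => if d ∣ n then Polynomial.monomial (n / d * w) (coeff (n / d) f) else 0

theorem coeff_up_mul {d : ℕ} (hd : 0 < d) (w : ℕ) (f : R⟦X⟧) (m : ℕ) :
    coeff (d * m) (up d w f) = Polynomial.monomial (m * w) (coeff m f) := by
  rw [up, coeff_mk, if_pos (dvd_mul_right d m), Nat.mul_div_cancel_left m hd]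

theorem coeff_up_not {d n : ℕ} (h : ¬ d ∣ n) (w : ℕ) (f : R⟦X⟧) : coeff n (up d w f) = 0 := by
  rw [up, coeff_mk, if_neg h]

theorem up_mul {d : ℕ} (hd : 0 < d) (w : ℕ) (f g : R⟦X⟧) : up d w (f * g) = up d w f * up d w g := by
  ext1 n
  by_cases hn : d ∣ n
  · obtain ⟨m, rfl⟩ := hn
    rw [coeff_up_mul hd, coeff_mul, coeff_mul, map_sum]
    refine Finset.sum_of_injOn (fun x => (d * x.1, d * x.2)) ?_ ?_ ?_ ?_
    · intro a _ b _ hab
      simp only [Prod.mk.injEq] at hab
      exact Prod.ext (Nat.eq_of_mul_eq_mul_left hd hab.1) (Nat.eq_of_mul_eq_mul_left hd hab.2)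
    · intro a ha
      rw [mem_coe, mem_antidiagonal] at ha ⊢
      simp only
      rw [← mul_add, ha]
    · rintro ⟨a, b⟩ hab hn
      rw [mem_antidiagonal] at hab
      simp only at hab ⊢
      by_cases ha : d ∣ a
      · obtain ⟨a, rfl⟩ := ha
        have hb : d ∣ b := (Nat.dvd_add_right (dvd_mul_right d a)).1 (hab ▸ dvd_mul_right d m)
        obtain ⟨b, rfl⟩ := hb
        exfalso
        apply hn
        refine ⟨(a, b), ?_, rfl⟩
        rw [mem_coe, mem_antidiagonal]
        simp only
        rw [← mul_add] at hab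
        exact Nat.eq_of_mul_eq_mul_left hd hab
      · rw [coeff_up_not ha, zero_mul]
    · rintro ⟨a, b⟩ hab
      rw [mem_antidiagonal] at hab
      simp only at hab ⊢
      rw [coeff_up_mul hd, coeff_up_mul hd, Polynomial.monomial_mul_monomial, ← hab, add_mul]
  · rw [coeff_up_not hn, coeff_mul]
    symm
    refine Finset.sum_eq_zero fun x hx => ?_
    rw [mem_antidiagonal] at hx
    by_cases ha : d ∣ x.1
    · have hb : ¬ d ∣ x.2 := fun hb => hn (hx ▸ dvd_add ha hb)
      rw [coeff_up_not hb, mul_zero]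
    · rw [coeff_up_not ha, zero_mul]

theorem dS_up {d : ℕ} (hd : 0 < d) (w : ℕ) (f : R⟦X⟧) :
    dS (up d w f) = (d : (Polynomial R)⟦X⟧) * up d w (dS f) := by
  ext1 n
  have h2 : coeff n ((d : (Polynomial R)⟦X⟧) * up d w (dS f)) = (d : Polynomial R) * coeff n (up d w (dS f)) := by
    have : (d : (Polynomial R)⟦X⟧) = PowerSeries.C (d : Polynomial R) := by simp
    rw [this, coeff_C_mul]
  rw [coeff_dS, h2]
  by_cases hn : d ∣ n
  · obtain ⟨m, rfl⟩ := hn
    rw [coeff_up_mul hd, coeff_up_mul hd, coeff_dS]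
    push_cast
    rw [mul_assoc]
    congr 1
    rw [← Polynomial.C_eq_natCast, Polynomial.C_mul_monomial]
  · rw [coeff_up_not hn, coeff_up_not hn, mul_zero, mul_zero]

theorem coeff_zero_up {d : ℕ} (hd : 0 < d) (w : ℕ) (f : R⟦X⟧) :
    coeff 0 (up d w f) = Polynomial.C (coeff 0 f) := by
  have := coeff_up_mul hd w f 0
  rw [mul_zero] at this
  rw [this, zero_mul, Polynomial.monomial_zero_left]

end up

section orbits

/-- sums of invariant functions over a finite set are sums over the orbits. -/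
theorem sum_orbits {Ω A : Type*} [Fintype Ω] [CommRing A] (σ : Equiv.Perm Ω)
    [Fintype (Quotient (Equiv.Perm.SameCycle.setoid σ))] (g : Ω → A) (hg : ∀ x, g (σ x) = g x) :
    ∑ x, g x = ∑ c : Quotient (Equiv.Perm.SameCycle.setoid σ),
      (Function.minimalPeriod σ c.out : A) * g c.out := by
  classical
  rw [← Finset.sum_fiberwise Finset.univ (fun x => (Quotient.mk (Equiv.Perm.SameCycle.setoid σ) x)) g]
  refine Finset.sum_congr rfl fun c _ => ?_
  have hg' : ∀ (n : ℤ) (x : Ω), g ((σ ^ n) x) = g x := by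
    intro n
    induction n using Int.induction_on with
    | zero => simp
    | succ n ih =>
      intro x
      rw [zpow_add, zpow_one, Equiv.Perm.mul_apply, ih, hg]
    | pred n ih =>
      intro x
      rw [zpow_sub, zpow_one, Equiv.Perm.mul_apply, ih]
      have := hg (σ⁻¹ x)
      rw [show σ (σ⁻¹ x) = x from σ.apply_symm_apply x] at this
      exact this.symm
  have h1 : ∀ x ∈ Finset.univ.filter (fun x => Quotient.mk (Equiv.Perm.SameCycle.setoid σ) x = c),
      g x = g c.out := by
    intro x hx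
    rw [mem_filter] at hx
    have h2 : (Equiv.Perm.SameCycle.setoid σ).r x c.out := by
      rw [← Quotient.out_eq c] at hx
      exact Quotient.exact hx.2
    obtain ⟨n, hn⟩ := h2
    rw [← hn, hg']
  rw [Finset.sum_congr rfl h1, Finset.sum_const, nsmul_eq_mul]
  congr 2
  -- cardinality
  have hper := MulAction.minimalPeriod_eq_card (a := σ) (b := c.out)
  have h3 : Function.minimalPeriod (fun x => σ • x) c.out = Function.minimalPeriod σ c.out := rfl
  rw [← h3, hper, ← Fintype.card_coe]
  refine Fintype.card_congr (Equiv.subtypeEquivRight fun x => ?_)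
  rw [mem_filter]
  constructor
  · intro hx
    have h2 : (Equiv.Perm.SameCycle.setoid σ).r c.out x := by
      rw [← Quotient.out_eq c] at hx
      exact (Quotient.exact hx.2.symm)
    obtain ⟨n, hn⟩ := h2
    exact ⟨⟨σ ^ n, n, rfl⟩, hn⟩
  · rintro ⟨⟨_, n, rfl⟩, hn⟩
    refine ⟨Finset.mem_univ _, ?_⟩
    rw [← Quotient.out_eq c]
    exact Quotient.sound (show Equiv.Perm.SameCycle σ x c.out from (Equiv.Perm.SameCycle.symm ⟨n, hn⟩))

end orbits

end Cfsg.Agent.H421.GLn
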